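import Mathlib
import Cfsg.Agent.Lib.Helper18.T23.H2.SOTDefs
import Cfsg.Agent.Lib.Helper18.T23.H13.SOTGDefs
import Cfsg.Agent.Lib.Helper19.OSubBasic

/-!
S5666 part (G) (helper13's sub-market): leaf PL `good_span_pair`
(a hyperbolic plane spanned by two centres consists of centres and is nondegenerate).
Self-contained: own copies of the small transvection calculus (`pl_tvJ_smul`, `pl_inM_conj`, ...).
-/

set_option autoImplicit false
set_option linter.unusedSectionVars false
set_option linter.unusedVariables false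

namespace Cfsg.Agent.Lib.Helper18.T23.H24.SOTGLeaf
open Matrix
open Cfsg.Agent.Lib.Helper25.Tens Cfsg.Agent.Lib.Helper25.SpT Cfsg.Agent.Lib.Helper19.OSub
open Cfsg.Agent.Lib.Helper18.T23.H2.SOT Cfsg.Agent.Lib.Helper18.T23.H13.SOTG
open scoped Kronecker

section general
variable {ι : Type} [Fintype ι] [DecidableEq ι] {F : Type*} [Field F] {J : Matrix ι ι F}
  {M : Subgroup (GL ι F)}

theorem pl_tvJ_smul (u : ι → F) (t c : F) : tvJ J (t • u) c = tvJ J u (t ^ 2 * c) := by
  apply Matrix.mulVec_injective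
  funext v
  rw [tvJ_mulVec, tvJ_mulVec, fJ_smul_right, smul_smul]
  congr 1
  ring

theorem pl_inM_conj (hM : M ≤ SpJ J) {g : GL ι F} (hg : g ∈ M) {u : ι → F} {c : F}
    (hu : InM M (tvJ J u c)) : InM M (tvJ J (mv g u) c) := by
  obtain ⟨t, ht, htv⟩ := mv_of_inM_tvJ hu
  refine inM_tvJ_of_mv (M.mul_mem (M.mul_mem hg ht) (M.inv_mem hg)) ?_
  intro v
  rw [mv_mul, mv_mul, htv, mv_add, mv_smul, mv_mv_inv]
  have h1 : fJ J (mv g⁻¹ v) u = fJ J v (mv g u) := by
    have := mem_SpJ.1 (hM hg) (mv g⁻¹ v) u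
    rw [mv_mv_inv] at this
    exact this.symm
  rw [h1]

theorem pl_SsetJ_mv (hM : M ≤ SpJ J) {g : GL ι F} (hg : g ∈ M) {u : ι → F} (hu : u ∈ SsetJ J M) :
    mv g u ∈ SsetJ J M := fun c => pl_inM_conj hM hg (hu c)

theorem pl_SsetJ_smul {u : ι → F} (hu : u ∈ SsetJ J M) (t : F) : t • u ∈ SsetJ J M := by
  intro c
  rw [pl_tvJ_smul]
  exact hu _

theorem pl_SsetJ_add (hM : M ≤ SpJ J) {u w : ι → F} (hu : u ∈ SsetJ J M) (hw : w ∈ SsetJ J M)
    (hne : fJ J u w ≠ 0) (t : F) : u + t • w ∈ SsetJ J M := by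
  obtain ⟨g, hg, hgv⟩ := mv_of_inM_tvJ (hw (t / fJ J u w))
  have := pl_SsetJ_mv hM hg hu
  rwa [hgv u, div_mul_cancel₀ _ hne] at this

/-- (PL) -/
theorem good_span_pair (h : AltCtx J) (hM : M ≤ SpJ J) {u w : ι → F} (hu : u ∈ SsetJ J M)
    (hw : w ∈ SsetJ J M) (hne : fJ J u w ≠ 0) :
    Good J M (Submodule.span F {u, w}) ∧ NonDeg J (Submodule.span F {u, w}) := by
  constructor
  · intro x hx
    obtain ⟨s, t, rfl⟩ := Submodule.mem_span_pair.1 hx
    by_cases hs : s = 0
    · subst hs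
      rw [zero_smul, zero_add]
      exact pl_SsetJ_smul hw t
    · have h1 : s • u + t • w = s • (u + (t / s) • w) := by
        rw [smul_add, smul_smul, mul_div_cancel₀ _ hs]
      rw [h1]
      exact pl_SsetJ_smul (pl_SsetJ_add hM hu hw hne _) s
  · intro x hx hx0
    obtain ⟨s, t, rfl⟩ := Submodule.mem_span_pair.1 hx
    have hu' : u ∈ Submodule.span F {u, w} := Submodule.subset_span (by simp)
    have hw' : w ∈ Submodule.span F {u, w} := Submodule.subset_span (by simp)
    have e1 := hx0 w hw'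
    have e2 := hx0 u hu'
    rw [fJ_add_left, fJ_smul_left, fJ_smul_left, h.alt, mul_zero, add_zero] at e1
    rw [fJ_add_left, fJ_smul_left, fJ_smul_left, h.alt, mul_zero, zero_add,
      fJ_skew h w u] at e2
    have hs : s = 0 := by
      rcases mul_eq_zero.1 e1 with h0 | h0
      · exact h0
      · exact absurd h0 hne
    have ht : t = 0 := by
      rcases mul_eq_zero.1 e2 with h0 | h0
      · exact h0
      · exact absurd (neg_eq_zero.1 h0) hne
    rw [hs, ht, zero_smul, zero_smul, add_zero]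

end general

end Cfsg.Agent.Lib.Helper18.T23.H24.SOTGLeaf
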